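import Cfsg.Agent.Lib.Fusion.WeaklyEmbedded.Step

/-!
If the subgroups of one order are weakly embedded and have trivial normalizer systems then the system is inner.
-/

set_option autoImplicit false
set_option linter.unusedSectionVars false

namespace Cfsg.WeaklyEmbedded

open FusionSystem

universe u

variable {Ω : Type u} [Group Ω] {S : Subgroup Ω} [Finite S] {p : ℕ} [Fact p.Prime] {F : FusionSystem S}
  {T : Subgroup Ω}

/-- The standing hypotheses. -/
structure Hyp (p d : ℕ) (F : FusionSystem S) : Prop where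
  pg : IsPGroup p S
  sat : F.IsSaturated p
  lt : p ^ d < Nat.card S
  weak : ∀ Q : Subgroup Ω, Q ≤ S → Nat.card Q = p ^ d →
    ∃ P : Subgroup Ω, F.StronglyClosed P ∧ F.StronglyClosed (Q ⊔ P) ∧ F.StronglyClosed (Q ⊓ P)
  norm : ∀ H : Subgroup Ω, H ≤ S → S ≤ Subgroup.normalizer (H : Set Ω) → Nat.card H = p ^ d → F.NormalizerInner H

theorem exists_card_between (hS : IsPGroup p S) {A B : Subgroup Ω} (hAB : A ≤ B) (hB : B ≤ S) {d : ℕ}
    (hA : Nat.card A ≤ p ^ d) (hd : p ^ d ≤ Nat.card B) : ∃ Q : Subgroup Ω, A ≤ Q ∧ Q ≤ B ∧ Nat.card Q = p ^ d := by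
  have hpp : p.Prime := Fact.out
  haveI : Finite B := finite_of_le hB
  haveI : Finite A := finite_of_le (hAB.trans hB)
  obtain ⟨i, hi⟩ := IsPGroup.iff_card.mp ((hS.to_le (hAB.trans hB)))
  obtain ⟨m, hm⟩ := IsPGroup.iff_card.mp (hS.to_le hB)
  rw [hi, Nat.pow_le_pow_iff_right hpp.one_lt] at hA
  rw [hm, Nat.pow_le_pow_iff_right hpp.one_lt] at hd
  obtain ⟨K, hK, hK'⟩ := Sylow.exists_subgroup_card_pow_prime_le p (G := B) (n := i) (m := d)
    (hm ▸ pow_dvd_pow p hd) (A.subgroupOf B) (by rw [Nat.card_congr (Subgroup.subgroupOfEquivOfLe hAB).toEquiv, hi]) hA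
  refine ⟨K.map B.subtype, fun x hx => ⟨⟨x, hAB hx⟩, hK' hx, rfl⟩, Subgroup.map_subtype_le _, ?_⟩
  rw [Subgroup.card_map_of_injective B.subtype_injective, hK]

/-- A subgroup of order `p ^ d` containing a normal one, normal in `S`. -/
theorem exists_normal_above (hS : IsPGroup p S) : ∀ (k : ℕ) (V : Subgroup Ω), V ≤ S →
    S ≤ Subgroup.normalizer (V : Set Ω) → Nat.card V * p ^ k ≤ Nat.card S →
    ∃ H : Subgroup Ω, V ≤ H ∧ H ≤ S ∧ S ≤ Subgroup.normalizer (H : Set Ω) ∧ Nat.card H = Nat.card V * p ^ k := by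
  intro k
  induction k with
  | zero => exact fun V hV hn _ => ⟨V, le_rfl, hV, hn, by simp⟩
  | succ k ih =>
    intro V hV hn hc
    haveI : Finite V := finite_of_le hV
    haveI : (V.subgroupOf S).Normal := Subgroup.normal_subgroupOf_of_le_normalizer hn
    have hlt : V.subgroupOf S < ⊤ := by
      refine lt_top_iff_ne_top.mpr fun e => ?_
      have h1 : Nat.card V = Nat.card S := by
        rw [← Nat.card_congr (Subgroup.subgroupOfEquivOfLe hV).toEquiv, e, Subgroup.card_top]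
      have h2 : 1 < p ^ (k + 1) := Nat.one_lt_pow (by omega) (Fact.out : p.Prime).one_lt
      have h3 : 0 < Nat.card V := Nat.card_pos
      rw [← h1] at hc
      nlinarith
    obtain ⟨M, hMn, hVM, -, hM⟩ := CfsgLib.PGroupRankTwo.exists_normal_step hS hlt
    rw [Nat.card_congr (Subgroup.subgroupOfEquivOfLe hV).toEquiv] at hM
    have hMn' : S ≤ Subgroup.normalizer ((M.map S.subtype : Subgroup Ω) : Set Ω) := by
      have h1 := Subgroup.le_normalizer_map (H := M) S.subtype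
      rwa [Subgroup.normalizer_eq_top, ← MonoidHom.range_eq_map, Subgroup.range_subtype] at h1
    obtain ⟨H, h1, h2, h3, h4⟩ := ih _ (Subgroup.map_subtype_le M) hMn' (by
      rw [Subgroup.card_map_of_injective S.subtype_injective, hM, mul_assoc, ← pow_succ']; exact hc)
    refine ⟨H, (show V ≤ M.map S.subtype from fun x hx => ⟨⟨x, hV hx⟩, hVM hx, rfl⟩).trans h1, h2, h3, ?_⟩
    rw [h4, Subgroup.card_map_of_injective S.subtype_injective, hM, mul_assoc, ← pow_succ']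

variable {d : ℕ}

theorem Hyp.sin (h : Hyp p d F) {V : Subgroup Ω} (hVS : V ≤ S) (hVn : S ≤ Subgroup.normalizer (V : Set Ω))
    (hmod : InnerMod F V) (hV : Nat.card V ≤ p ^ d) : ∀ φ ∈ F.Hom S, ∃ g ∈ S, ∀ x : S, φ x = g * (x : Ω) * g⁻¹ := by
  intro φ hφ
  haveI : Finite V := finite_of_le hVS
  obtain ⟨i, hi⟩ := IsPGroup.iff_card.mp (h.pg.to_le hVS)
  rw [hi, Nat.pow_le_pow_iff_right (Fact.out : p.Prime).one_lt] at hV
  obtain ⟨H, hVH, hHS, hHn, hHc⟩ := exists_normal_above h.pg (d - i) V hVS hVn (by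
    rw [hi, ← pow_add, Nat.add_sub_cancel' hV]; exact h.lt.le)
  rw [hi, ← pow_add, Nat.add_sub_cancel' hV] at hHc
  have hsc := hmod.stronglyClosed hVH hHS hHn
  have hle : S ⊔ H ≤ S := sup_le le_rfl hHS
  have hN : normalizerIn S H = S := normalizerIn_eq_of_le_normalizer hHn
  obtain ⟨g, hg, hge⟩ := h.norm H hHS hHn hHc S φ ⟨hφ, hN.ge, fun x => hN.ge (F.apply_mem hφ x),
    φ.comp (Subgroup.inclusion hle), F.restrict_mem hφ hle, fun _ => rfl,
    hsc.map_eq (F.restrict_mem hφ hle) le_sup_right⟩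
  exact ⟨g, hg.1, hge⟩

theorem Hyp.innerMod_of_card (h : Hyp p d F) (hT : F.StronglyClosed T) (hc : Nat.card T = p ^ d) : InnerMod F T := by
  intro P φ hφ
  obtain ⟨ψ, hψ, hψe⟩ := h.sat.exists_congr_mod h.pg hT hφ
  have hN : normalizerIn S T = S := normalizerIn_eq_of_le_normalizer hT.le_normalizer
  have hle : P ⊔ T ⊔ T ≤ P ⊔ T := sup_le le_rfl le_sup_right
  obtain ⟨g, hg, hge⟩ := h.norm T hT.1 hT.le_normalizer hc _ ψ ⟨hψ, (F.source_le hψ).trans hN.ge,
    fun x => hN.ge (F.apply_mem hψ x), ψ.comp (Subgroup.inclusion hle), F.restrict_mem hψ hle, fun _ => rfl,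
    hT.map_eq (F.restrict_mem hψ hle) le_sup_right⟩
  refine ⟨g, hg.1, fun x => ?_⟩
  rw [← hge ⟨x, Subgroup.mem_sup_left x.2⟩]
  exact hψe x

theorem mem_normalizer_of_mapsTo {Q : Subgroup Ω} [Finite Q] {g : Ω} (hg : ∀ q ∈ Q, g * q * g⁻¹ ∈ Q) :
    g ∈ Subgroup.normalizer (Q : Set Ω) := by
  have heq := Subgroup.eq_of_le_of_card_ge (show Q.map (MulAut.conj g).toMonoidHom ≤ Q by
      rintro _ ⟨q, hq, rfl⟩
      exact hg q hq) (ge_of_eq (Subgroup.card_map_of_injective (MulEquiv.injective _)))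
  refine Subgroup.mem_normalizer_iff.mpr fun x => ⟨hg x, fun hx => ?_⟩
  obtain ⟨q, hq, e⟩ := heq.ge hx
  have : q = x := mul_left_cancel (mul_right_cancel e)
  exact this ▸ hq

theorem mem_sup_of_normal {A B : Subgroup Ω} (hB : A ≤ Subgroup.normalizer (B : Set Ω)) {x : Ω} (hx : x ∈ A ⊔ B) :
    ∃ a ∈ A, ∃ b ∈ B, x = a * b := by
  have h1 : x ∈ (↑(A ⊔ B) : Set Ω) := hx
  rw [Subgroup.coe_mul_of_left_le_normalizer_right A B hB] at h1
  obtain ⟨a, ha, b, hb, rfl⟩ := h1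
  exact ⟨a, ha, b, hb, rfl⟩

/-- The lattice argument inside a minimal strongly closed step. -/
theorem Hyp.inter (h : Hyp p d F) {V : Subgroup Ω} (hT : F.StronglyClosed T) (hV : F.StronglyClosed V) (hTV : T < V)
    (hmin : ∀ X : Subgroup Ω, F.StronglyClosed X → T ≤ X → X ≤ V → X = T ∨ X = V) {Q : Subgroup Ω} (hQS : Q ≤ S)
    (hQ : Nat.card Q = p ^ d) (hTQ : T ≤ Q) (h1 : ¬ Q ⊓ V ≤ T) (h2 : ¬ V ≤ Q) :
    ∃ P : Subgroup Ω, F.StronglyClosed P ∧ P ⊓ V ≤ T ∧ F.StronglyClosed (Q ⊔ P) := by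
  obtain ⟨P, hP, hsup, hinf⟩ := h.weak Q hQS hQ
  refine ⟨P, hP, ?_, hsup⟩
  by_contra hPV
  -- then `V` is covered by `P`
  have hY := (StronglyClosed.inf (hP) hV).sup h.sat h.pg hT
  rcases hmin _ hY le_sup_right (sup_le inf_le_right hTV.le) with e | e
  · exact hPV (le_sup_left.trans e.le)
  have hQV : (Q ⊓ P ⊓ V) ⊔ T = Q ⊓ V := by
    refine le_antisymm (sup_le (inf_le_inf_right V inf_le_left) (le_inf hTQ hTV.le)) fun x hx => ?_
    obtain ⟨a, ha, b, hb, rfl⟩ := mem_sup_of_normal ((inf_le_right.trans hV.1).trans hT.le_normalizer)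
      (e.ge hx.2 : x ∈ P ⊓ V ⊔ T)
    refine Subgroup.mul_mem_sup ⟨⟨?_, ha.1⟩, ha.2⟩ hb
    exact (Q.mul_mem_cancel_right (hTQ hb)).mp hx.1
  rcases hmin _ (hQV ▸ (StronglyClosed.inf hinf hV).sup h.sat h.pg hT) (le_inf hTQ hTV.le) inf_le_right with e' | e'
  · exact h1 e'.le
  · exact h2 (e'.ge.trans inf_le_left)

/-- The main induction, downwards on the order of `T`. -/
theorem Hyp.innerMod (h : Hyp p d F) : ∀ (k : ℕ) (T : Subgroup Ω), F.StronglyClosed T →
    Nat.card T ≤ p ^ d → p ^ d - Nat.card T ≤ k → InnerMod F T := by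
  have hpp : p.Prime := Fact.out
  intro k
  induction k using Nat.strong_induction_on with
  | _ k ih =>
  intro T hT hTd hk
  haveI : Finite T := finite_of_le hT.1
  rcases hTd.eq_or_lt with e | hlt
  · exact h.innerMod_of_card hT e
  haveI : Finite T := finite_of_le hT.1
  -- a minimal strongly closed subgroup above `T`
  have hSsc : F.StronglyClosed S := ⟨le_rfl, fun R _ φ hφ x => F.apply_mem hφ x⟩
  have hTS : T < S := lt_of_le_of_ne hT.1 fun e => by rw [e] at hlt; exact lt_asymm hlt h.lt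
  obtain ⟨V, ⟨hV, hTV⟩, hVmin⟩ : ∃ V, Minimal (fun X => F.StronglyClosed X ∧ T < X) V := by
    have hf : {X : Subgroup Ω | F.StronglyClosed X ∧ T < X}.Finite :=
      (finite_setOf_le S).subset fun X hX => hX.1.1
    exact hf.exists_minimal ⟨S, hSsc, hTS⟩
  have hmin : ∀ X : Subgroup Ω, F.StronglyClosed X → T ≤ X → X ≤ V → X = T ∨ X = V := by
    intro X hX hTX hXV
    rcases hTX.eq_or_lt with e | e
    · exact Or.inl e.symm
    · exact Or.inr (le_antisymm hXV (hVmin ⟨hX, e⟩ hXV))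
  haveI : Finite V := finite_of_le hV.1
  -- the small subgroups above `T`
  have hstep : ∀ W : Subgroup Ω, F.StronglyClosed W → T < W → Nat.card W ≤ p ^ d → InnerMod F W := by
    intro W hW hTW hWd
    haveI : Finite W := finite_of_le hW.1
    have := card_lt_of_lt hTW
    exact ih (p ^ d - Nat.card W) (by omega) W hW hWd le_rfl
  -- minimal strongly closed subgroups above `T` are small
  have hsmall : ∀ W : Subgroup Ω, F.StronglyClosed W → T < W →
      (∀ X : Subgroup Ω, F.StronglyClosed X → T ≤ X → X ≤ W → X = T ∨ X = W) → Nat.card W ≤ p ^ d := by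
    intro W hW hTW hWmin
    by_contra hbig
    push Not at hbig
    haveI : Finite W := finite_of_le hW.1
    obtain ⟨Q, hTQ, hQW, hQ⟩ := exists_card_between h.pg hTW.le hW.1 hTd hbig.le
    haveI : Finite Q := finite_of_le (hQW.trans hW.1)
    have hQT : ¬ Q ⊓ W ≤ T := fun hle => by
      have := Subgroup.card_le_of_le ((le_inf le_rfl hQW).trans hle)
      omega
    have hWQ : ¬ W ≤ Q := fun hle => by
      have := Subgroup.card_le_of_le hle
      omega
    obtain ⟨P, hP, hPW, hsup⟩ := h.inter hT hW hTW hWmin (hQW.trans hW.1) hQ hTQ hQT hWQ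
    rcases hWmin _ (StronglyClosed.inf hsup hW) (le_inf (hTQ.trans le_sup_left) hTW.le) inf_le_right with e | e
    · exact hQT (le_trans (inf_le_inf_right W le_sup_left) e.le)
    · refine hWQ fun x hx => ?_
      obtain ⟨a, ha, b, hb, rfl⟩ := mem_sup_of_normal ((hQW.trans hW.1).trans hP.le_normalizer) (e.ge hx).1
      exact Q.mul_mem ha (hTQ (hPW ⟨hb, (W.mul_mem_cancel_left (hQW ha)).mp hx⟩))
  have hVd := hsmall V hV hTV hmin
  have hVmod := hstep V hV hTV hVd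
  have hsin := h.sin hV.1 hV.le_normalizer hVmod hVd
  -- pass to the quotient by `T`
  haveI hTn : (T.subgroupOf S).Normal := Subgroup.normal_subgroupOf_of_le_normalizer hT.le_normalizer
  let θ : S →* S ⧸ T.subgroupOf S := QuotientGroup.mk' _
  have hker : ∀ s : S, θ s = 1 ↔ (s : Ω) ∈ T := fun s => QuotientGroup.eq_one_iff s
  let E := factorSystem (S₀ := T) (F := F) (θ := θ) hker hT
  have hfs : F.IsFactorSystem T θ E := ⟨hT.1, hker, rfl, fun _ _ => Iff.rfl⟩
  have hmor := Cfsg.Agent.S5134.result p h.pg F h.sat T hT θ E hfs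
  have hEsat := Cfsg.Agent.S5133.result p h.pg F h.sat E θ hmor
  haveI : Finite θ.range := Finite.of_surjective θ.rangeRestrict θ.rangeRestrict_surjective
  have hEp : IsPGroup p θ.range := h.pg.of_surjective θ.rangeRestrict θ.rangeRestrict_surjective
  set V' := imageAlong θ V with hV'def
  have hV'S : V' ≤ θ.range := by
    rintro _ ⟨s, -, rfl⟩
    exact ⟨s, rfl⟩
  have hV'n : θ.range ≤ Subgroup.normalizer (V' : Set (S ⧸ T.subgroupOf S)) := by
    have h1 := Subgroup.le_normalizer_map (H := V.subgroupOf S) θ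
    haveI : (V.subgroupOf S).Normal := Subgroup.normal_subgroupOf_of_le_normalizer hV.le_normalizer
    rwa [Subgroup.normalizer_eq_top, ← MonoidHom.range_eq_map] at h1
  have hlift : ∀ {P' : Subgroup (S ⧸ T.subgroupOf S)} {φ' : P' →* S ⧸ T.subgroupOf S}, φ' ∈ E.Hom P' →
      ∃ φ ∈ F.Hom (preimageAlong θ P'), InducedAlong θ φ φ' ∧ P' ≤ θ.range :=
    fun {P' φ'} hφ' => by obtain ⟨h1, φ, h2, h3⟩ := hφ'; exact ⟨φ, h2, h3, h1⟩
  have hEmod : InnerMod E V' := by
    intro P' φ' hφ'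
    obtain ⟨φ, hφ, hind, hP'⟩ := hlift hφ'
    obtain ⟨g, hg, hge⟩ := hVmod _ φ hφ
    refine ⟨θ ⟨g, hg⟩, ⟨_, rfl⟩, fun y => ?_⟩
    obtain ⟨x, hx, hxS, e⟩ := exists_mem_preimageAlong hP' y
    have h1 : θ ⟨x, hxS⟩ ∈ P' := e ▸ y.2
    rw [show y = ⟨θ ⟨x, hxS⟩, h1⟩ from Subtype.ext e.symm, inducedAlong_apply_mem hφ hind ⟨x, hx⟩ h1]
    refine ⟨(⟨g, hg⟩ * ⟨x, hxS⟩ * ⟨g, hg⟩⁻¹)⁻¹ * ⟨φ ⟨x, hx⟩, F.apply_mem hφ _⟩, hge ⟨x, hx⟩, ?_⟩
    simp only [map_mul, map_inv]
  have hEsin : ∀ φ' ∈ E.Hom θ.range, ∃ g ∈ θ.range, ∀ x : θ.range, φ' x = g * (x : S ⧸ T.subgroupOf S) * g⁻¹ := by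
    intro φ' hφ'
    obtain ⟨φ, hφ, hind, -⟩ := hlift hφ'
    have hle : S ≤ preimageAlong θ θ.range := fun x hx => mem_preimageAlong.mpr ⟨hx, _, rfl⟩
    obtain ⟨g, hg, hge⟩ := hsin _ (F.restrict_mem hφ hle)
    refine ⟨θ ⟨g, hg⟩, ⟨_, rfl⟩, ?_⟩
    rintro ⟨_, s, rfl⟩
    rw [inducedAlong_apply_mem hφ hind ⟨s, hle s.2⟩ ⟨s, rfl⟩, ← map_inv, ← map_mul, ← map_mul]
    congr 1
    exact Subtype.ext (hge s)
  rcases inner_or_exists hEp hEsat hV'S hV'n hEmod hEsin with hin | ⟨M', hM'S, hM'n, hM'c, hVM', hMV'⟩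
  · intro P φ hφ
    obtain ⟨φ', hφ', hPS, hφS, hmem, he⟩ := hmor.1.2 P φ hφ
    obtain ⟨-, g', ⟨g, rfl⟩, hge⟩ := hin _ hφ'
    refine ⟨g, g.2, fun x => ?_⟩
    have h1 := (he x).symm.trans (hge ⟨_, hmem x⟩)
    have h2 : θ ((g * ⟨x, hPS x.2⟩ * g⁻¹)⁻¹ * ⟨φ x, hφS x⟩) = 1 := by
      rw [map_mul, map_inv, map_mul, map_mul, map_inv, h1, inv_mul_cancel]
    exact (hker _).mp h2
  -- otherwise a contradiction
  exfalso
  set M := preimageAlong θ M' with hMdef
  have hMS : M ≤ S := preimageAlong_le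
  haveI : Finite M := finite_of_le hMS
  have hTM : T ≤ M := le_preimageAlong hker hT.1
  have hVM : ¬ V ≤ M := fun hle => hVM' (by
    rintro _ ⟨s, hs, rfl⟩
    exact (mem_preimageAlong.mp (hle hs)).2)
  have hR1 : ¬ M ⊓ V ≤ T := fun hle => hMV' ((Subgroup.eq_bot_iff_forall _).mpr fun y hy => by
    obtain ⟨s, hs, rfl⟩ := hy.2
    exact (hker s).mpr (hle ⟨mem_preimageAlong.mpr ⟨s.2, hy.1⟩, hs⟩))
  have hMd : p ^ d ≤ Nat.card M := by
    have hsurj : Function.Surjective θ := QuotientGroup.mk'_surjective _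
    have h1 : Nat.card M = Nat.card M' * Nat.card T := by
      rw [hMdef, preimageAlong, Subgroup.card_map_of_injective S.subtype_injective, CfsgLib.card_comap_mk,
        Nat.card_congr (Subgroup.subgroupOfEquivOfLe hT.1).toEquiv, mul_comm]
    have h2 : Nat.card θ.range * Nat.card T = Nat.card S := by
      rw [MonoidHom.range_eq_top.mpr hsurj, Subgroup.card_top,
        ← Nat.card_congr (Subgroup.subgroupOfEquivOfLe hT.1).toEquiv]
      exact (Subgroup.card_eq_card_quotient_mul_card_subgroup _).symm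
    have h3 : Nat.card M * p = Nat.card S := by rw [h1, ← h2, ← hM'c]; ring
    obtain ⟨m, hm⟩ := IsPGroup.iff_card.mp h.pg
    have h4 := h.lt
    rw [hm, Nat.pow_lt_pow_iff_right hpp.one_lt] at h4
    have h5 : p ^ (d + 1) ≤ Nat.card M * p := by
      rw [h3, hm]
      exact Nat.pow_le_pow_right hpp.pos h4
    rw [pow_succ] at h5
    exact Nat.le_of_mul_le_mul_right h5 hpp.pos
  set R := M ⊓ V with hRdef
  haveI : Finite R := finite_of_le (inf_le_left.trans hMS)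
  obtain ⟨Q, hRQ, hQM, hQ⟩ := exists_card_between h.pg (inf_le_left : R ≤ M) hMS
    ((Subgroup.card_le_of_le inf_le_right).trans hVd) hMd
  have hQV : Q ⊓ V = R := le_antisymm (inf_le_inf_right V hQM) (le_inf hRQ inf_le_right)
  obtain ⟨P, hP, hPV, hsup⟩ := h.inter hT hV hTV hmin (hQM.trans hMS) hQ
    ((le_inf hTM hTV.le).trans hRQ) (hQV ▸ hR1) fun hle => hVM (hle.trans hQM)
  -- `P` is not inside `T`
  by_cases hPT : P ≤ T
  · rw [sup_eq_left.mpr (hPT.trans ((le_inf hTM hTV.le).trans hRQ))] at hsup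
    have hRsc := StronglyClosed.inf hsup hV
    rw [hQV] at hRsc
    rcases hmin _ hRsc (le_inf hTM hTV.le) inf_le_right with e | e
    · exact hR1 e.le
    · exact hVM (e.ge.trans inf_le_left)
  have hW0 := hP.sup h.sat h.pg hT
  have hTW0 : T < P ⊔ T := lt_of_le_of_ne le_sup_right fun e => hPT (le_sup_left.trans e.ge)
  obtain ⟨W, ⟨hW, hTW, hWle⟩, hWmin⟩ : ∃ W, Minimal (fun X => F.StronglyClosed X ∧ T < X ∧ X ≤ P ⊔ T) W := by
    have hf : {X : Subgroup Ω | F.StronglyClosed X ∧ T < X ∧ X ≤ P ⊔ T}.Finite :=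
      (finite_setOf_le S).subset fun X hX => hX.1.1
    exact hf.exists_minimal ⟨_, hW0, hTW0, le_rfl⟩
  have hWmin' : ∀ X : Subgroup Ω, F.StronglyClosed X → T ≤ X → X ≤ W → X = T ∨ X = W := by
    intro X hX hTX hXW
    rcases hTX.eq_or_lt with e | e
    · exact Or.inl e.symm
    · exact Or.inr (le_antisymm hXW (hWmin ⟨hX, e, hXW.trans hWle⟩ hXW))
  have hWV : W ⊓ V ≤ T := by
    intro x hx
    obtain ⟨a, ha, b, hb, rfl⟩ := mem_sup_of_normal (hP.1.trans hT.le_normalizer) (hWle hx.1)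
    exact T.mul_mem (hPV ⟨ha, (V.mul_mem_cancel_right (hTV.le hb)).mp hx.2⟩) hb
  have hWmod := hstep W hW hTW (hsmall W hW hTW hWmin')
  have hMn : S ≤ Subgroup.normalizer (M : Set Ω) := fun s hs => by
    have hn : θ ⟨s, hs⟩ ∈ Subgroup.normalizer (M' : Set (S ⧸ T.subgroupOf S)) := hM'n ⟨_, rfl⟩
    haveI : Finite M := finite_of_le hMS
    refine mem_normalizer_of_mapsTo fun x hx => ?_
    obtain ⟨hxS, hx'⟩ := mem_preimageAlong.mp hx
    refine mem_preimageAlong.mpr ⟨S.mul_mem (S.mul_mem hs hxS) (S.inv_mem hs), ?_⟩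
    rw [show (⟨s * x * s⁻¹, _⟩ : S) = ⟨s, hs⟩ * ⟨x, hxS⟩ * ⟨s, hs⟩⁻¹ from rfl, map_mul, map_mul, map_inv]
    exact (Subgroup.mem_normalizer_iff.mp hn _).mp hx'
  have hRn : S ≤ Subgroup.normalizer (R : Set Ω) := fun s hs => mem_normalizer_of_mapsTo fun x hx =>
    ⟨(Subgroup.mem_normalizer_iff.mp (hMn hs) x).mp hx.1, (Subgroup.mem_normalizer_iff.mp (hV.le_normalizer hs) x).mp hx.2⟩
  have hRS : R ≤ S := inf_le_left.trans hMS
  haveI : Finite ↥(R ⊔ W) := finite_of_le (sup_le hRS hW.1)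
  have hN := hWmod.stronglyClosed (le_sup_right : W ≤ R ⊔ W) (sup_le hRS hW.1) fun s hs =>
    mem_normalizer_of_mapsTo fun x hx => by
      obtain ⟨r, hr, w, hw, rfl⟩ := mem_sup_of_normal (hRS.trans hW.le_normalizer) hx
      rw [show s * (r * w) * s⁻¹ = s * r * s⁻¹ * (s * w * s⁻¹) by group]
      exact Subgroup.mul_mem_sup ((Subgroup.mem_normalizer_iff.mp (hRn hs) r).mp hr)
        ((Subgroup.mem_normalizer_iff.mp (hW.le_normalizer hs) w).mp hw)
  have hNV : (R ⊔ W) ⊓ V = R := by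
    refine le_antisymm (fun x hx => ?_) (le_inf le_sup_left inf_le_right)
    obtain ⟨r, hr, w, hw, rfl⟩ := mem_sup_of_normal (hRS.trans hW.le_normalizer) hx.1
    exact R.mul_mem hr (le_inf hTM hTV.le (hWV ⟨hw, (V.mul_mem_cancel_left hr.2).mp hx.2⟩))
  have hRsc := StronglyClosed.inf hN hV
  rw [hNV] at hRsc
  rcases hmin _ hRsc (le_inf hTM hTV.le) inf_le_right with e | e
  · exact hR1 e.le
  · exact hVM (e.ge.trans inf_le_left)

end Cfsg.WeaklyEmbedded
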