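import Cfsg.Agent.S5134
import Cfsg.Agent.S5133
import Cfsg.Agent.S5276
import Cfsg.Agent.Lib.PGroup.RankTwoNormal
import Cfsg.Agent.Lib.Fusion.ZJCriterion
import Cfsg.Agent.Lib.Fusion.OmegaSeries

/-!
Fusion systems inner modulo a strongly closed subgroup, and the step from one such subgroup to the next.
-/

set_option autoImplicit false
set_option linter.unusedSectionVars false

namespace Cfsg.WeaklyEmbedded

open FusionSystem

universe u

variable {Ω : Type u} [Group Ω] {S : Subgroup Ω} [Finite S] {p : ℕ} [Fact p.Prime] {F : FusionSystem S}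
  {T V : Subgroup Ω}

/-- Every map is congruent modulo `T` to a conjugation. -/
def InnerMod (F : FusionSystem S) (T : Subgroup Ω) : Prop :=
  ∀ (P : Subgroup Ω) (φ : P →* Ω), φ ∈ F.Hom P → ∃ g ∈ S, ∀ x : P, (g * (x : Ω) * g⁻¹)⁻¹ * φ x ∈ T

theorem InnerMod.stronglyClosed (h : InnerMod F V) {N : Subgroup Ω} (hVN : V ≤ N) (hNS : N ≤ S)
    (hn : S ≤ Subgroup.normalizer (N : Set Ω)) : F.StronglyClosed N := by
  refine ⟨hNS, fun R hR φ hφ x => ?_⟩
  obtain ⟨g, hg, hge⟩ := h R φ hφ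
  have h1 : g * (x : Ω) * g⁻¹ ∈ N := (Subgroup.mem_normalizer_iff.mp (hn hg) x).mp (hR x.2)
  have h2 := N.mul_mem h1 (hVN (hge x))
  rwa [mul_inv_cancel_left] at h2

theorem InnerMod.isInner (h : InnerMod F ⊥) : F.IsInner := fun P φ hφ => by
  obtain ⟨g, hg, hge⟩ := h P φ hφ
  refine ⟨F.source_le hφ, g, hg, fun x => ?_⟩
  have := hge x
  rw [Subgroup.mem_bot, inv_mul_eq_one] at this
  exact this.symm

/-- Maps on a group having a normal subgroup of order `p` on which they are trivial. -/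
theorem pow_eq_one_of_congr {X : Type*} [Group X] {W : Subgroup X} {α : MulAut X}
    (hfix : ∀ w ∈ W, α w = w) (hmod : ∀ x, x⁻¹ * α x ∈ W) (hW : ∀ w ∈ W, w ^ p = 1) : α ^ p = 1 := by
  have key : ∀ (j : ℕ) x, (α ^ j) x = x * (x⁻¹ * α x) ^ j := by
    intro j x
    induction j with
    | zero => simp
    | succ j ih =>
      rw [pow_succ', MulAut.mul_apply, ih, map_mul, hfix _ (W.pow_mem (hmod x) j), pow_succ', ← mul_assoc x,
        mul_inv_cancel_left]
  ext x
  rw [key, hW _ (hmod x), mul_one]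
  rfl

/-- The step in a quotient. -/
theorem inner_or_exists (hS : IsPGroup p S) (hF : F.IsSaturated p) {V : Subgroup Ω} (hVS : V ≤ S)
    (hVn : S ≤ Subgroup.normalizer (V : Set Ω)) (hmod : InnerMod F V)
    (hsin : ∀ φ ∈ F.Hom S, ∃ g ∈ S, ∀ x : S, φ x = g * (x : Ω) * g⁻¹) :
    F.IsInner ∨ ∃ M : Subgroup Ω, M ≤ S ∧ S ≤ Subgroup.normalizer (M : Set Ω) ∧ Nat.card M * p = Nat.card S ∧
      ¬ V ≤ M ∧ M ⊓ V ≠ ⊥ := by
  have hpp : p.Prime := Fact.out
  by_cases hΦ : V ≤ (frattini S).map S.subtype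
  · refine Or.inl (isInner_of_hom_eq ((Cfsg.Agent.S5276.result p hS F hF).mpr ⟨fun N hN P => ?_, ?_⟩))
    · have hin : F.NormalizerInner S := by
        rintro P φ ⟨-, hP, -, ψ, hψ, hψe, hψS⟩
        have hle : S ≤ P ⊔ S := le_sup_right
        obtain ⟨g, hg, hge⟩ := hsin _ (F.restrict_mem hψ hle)
        refine ⟨g, ⟨hg, Subgroup.le_normalizer hg⟩, fun x => ?_⟩
        rw [← hψe x, ← hge ⟨x, (hP x.2).1⟩]
        rfl
      exact (hN.isInner hin).hom_eq P
    · refine hmod.stronglyClosed hΦ (Subgroup.map_subtype_le _) fun g hg => ?_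
      refine Subgroup.mem_normalizer_iff.mpr fun y => ⟨?_, fun hy => ?_⟩
      · rintro ⟨z, hz, rfl⟩
        exact ⟨_, (inferInstance : (frattini S).Normal).conj_mem z hz ⟨g, hg⟩, rfl⟩
      · obtain ⟨z, hz, e⟩ := hy
        refine ⟨⟨g, hg⟩⁻¹ * z * ⟨g, hg⟩, ?_, ?_⟩
        · have := (inferInstance : (frattini S).Normal).conj_mem z hz ⟨g, hg⟩⁻¹
          rwa [inv_inv] at this
        · show g⁻¹ * (z : Ω) * g = y
          rw [show (z : Ω) = g * y * g⁻¹ from e]
          group
  obtain ⟨M₀, hM₀, hVM⟩ : ∃ M₀ : Subgroup S, IsCoatom M₀ ∧ ¬ V.subgroupOf S ≤ M₀ := by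
    by_contra hh
    push Not at hh
    refine hΦ fun x hx => ⟨⟨x, hVS hx⟩, ?_, rfl⟩
    have hle : V.subgroupOf S ≤ frattini S := by
      simp only [frattini, Order.radical, le_iInf_iff]
      exact fun M hM => hh M hM
    exact hle hx
  haveI : Group.IsNilpotent S := hS.isNilpotent
  haveI hM₀n : M₀.Normal := Subgroup.NormalizerCondition.normal_of_coatom M₀ Group.normalizerCondition_of_isNilpotent hM₀
  obtain ⟨M', -, hMM', -, hM'c⟩ := CfsgLib.PGroupRankTwo.exists_normal_step hS (M := M₀) (N := ⊤) hM₀.lt_top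
  have hidx : Nat.card M₀ * p = Nat.card S := by
    rcases hMM'.eq_or_lt with e | e
    · rw [← e] at hM'c
      exact absurd hM'c (fun hh => hpp.one_lt.ne (Nat.eq_of_mul_eq_mul_left Nat.card_pos ((mul_one _).trans hh)))
    · rw [← hM'c, hM₀.2 _ e, Subgroup.card_top]
  by_cases hMV : M₀.map S.subtype ⊓ V = ⊥
  swap
  · refine Or.inr ⟨M₀.map S.subtype, Subgroup.map_subtype_le _, (by
      have h1 := Subgroup.le_normalizer_map (H := M₀) S.subtype
      rwa [Subgroup.normalizer_eq_top, ← MonoidHom.range_eq_map, Subgroup.range_subtype] at h1),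
      by rw [Subgroup.card_map_of_injective S.subtype_injective, hidx], fun hle => hVM fun x hx => ?_, hMV⟩
    exact (Subgroup.mem_map_iff_mem S.subtype_injective).mp (hle hx)
  -- now `V` has order `p`
  haveI : Finite V := finite_of_le hVS
  have hi : M₀.index = p := by
    have := M₀.card_mul_index
    rw [← hidx] at this
    exact Nat.eq_of_mul_eq_mul_left Nat.card_pos this
  have hVcard : ∀ v ∈ V, v ^ p = 1 := fun v hv => by
    have h1 : ((⟨v, hVS hv⟩ : S) ^ p) ∈ M₀ := by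
      rw [← QuotientGroup.eq_one_iff, QuotientGroup.mk_pow, ← hi]
      exact pow_card_eq_one'
    have h2 : v ^ p ∈ M₀.map S.subtype ⊓ V := ⟨⟨_, h1, by simp⟩, V.pow_mem hv p⟩
    rwa [hMV, Subgroup.mem_bot] at h2
  have hcent : ∀ v ∈ V, ∀ g ∈ S, g * v * g⁻¹ = v := by
    intro v hv g hg
    have h1 : (⟨g, hg⟩ * ⟨v, hVS hv⟩ * ⟨g, hg⟩⁻¹ * ⟨v, hVS hv⟩⁻¹ : S) ∈ M₀ := by
      rw [← QuotientGroup.eq_one_iff]
      haveI : IsCyclic (S ⧸ M₀) := isCyclic_of_prime_card (p := p) (by rw [← Subgroup.index_eq_card, hi])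
      have hc : ∀ a b : S ⧸ M₀, a * b = b * a := by
        letI : CommGroup (S ⧸ M₀) := IsCyclic.commGroup
        exact mul_comm
      simp only [QuotientGroup.mk_mul, QuotientGroup.mk_inv]
      rw [hc ((⟨g, hg⟩ : S) : S ⧸ M₀), mul_inv_cancel_right, mul_inv_cancel]
    have h2 : g * v * g⁻¹ * v⁻¹ ∈ M₀.map S.subtype ⊓ V :=
      ⟨⟨_, h1, rfl⟩, V.mul_mem ((Subgroup.mem_normalizer_iff.mp (hVn hg) v).mp hv) (V.inv_mem hv)⟩
    rw [hMV, Subgroup.mem_bot, mul_inv_eq_one] at h2
    exact h2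
  refine Or.inl (isInner_of_hom_eq (hF.eq_inner_of_isPGroup hS fun P hP => ?_))
  -- every map fixes the elements of `V`
  have hVsc : F.StronglyClosed V := hmod.stronglyClosed le_rfl hVS hVn
  have hfixV : ∀ {R : Subgroup Ω} {φ : R →* Ω}, φ ∈ F.Hom R → ∀ x : R, (x : Ω) ∈ V → φ x = x := by
    intro R φ hφ x hx
    have hres := F.restrict_mem hφ (inf_le_right : V ⊓ R ≤ R)
    obtain ⟨ψ, hψ, hψe⟩ := hF.exists_congr_mod hS hVsc hres
    have hVfn : F.IsFullyNormalized V := isFullyNormalized_of_le_normalizer hVS hVn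
    have hext : ∀ {χ : V →* Ω}, χ ∈ F.Hom V → ∀ v : V, χ v = v := by
      intro χ hχ v
      have hr : χ.range = V := by
        haveI : Finite χ.range := finite_of_le (F.range_le hχ)
        refine Subgroup.eq_of_le_of_card_ge (fun y hy => ?_) (le_of_eq ?_)
        · obtain ⟨w, rfl⟩ := hy
          exact hVsc.2 V le_rfl χ hχ w
        · exact Nat.card_congr (MonoidHom.ofInjective (F.injective_of_mem hχ)).toEquiv
      obtain ⟨ω, hω, hωe⟩ := (hF.isReceptive_of_isFullyNormalized hS hVfn).2 V χ hχ hr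
      have hSe : S ≤ extender S V χ := fun g hg => centralizerIn_le_extender (F.apply_mem hχ)
        ⟨hg, Subgroup.mem_centralizer_iff.mpr fun w hw => (mul_inv_eq_iff_eq_mul.mp (hcent w hw g hg)).symm⟩
      obtain ⟨g, hg, hge⟩ := hsin _ (F.restrict_mem hω hSe)
      have h3 := hge ⟨v, hVS v.2⟩
      rw [hcent v v.2 g hg] at h3
      rw [← h3]
      exact (hωe v v.2 _).symm
    by_cases hVR : V ≤ R
    · exact hext (F.restrict_mem hφ hVR) ⟨x, hx⟩
    · have hbot : (x : Ω) = 1 := by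
        by_contra hx1
        refine hVR fun w hw => ?_
        have hcard : Nat.card V ∣ p := by
          have hinj : Function.Injective ((QuotientGroup.mk' M₀).comp (Subgroup.inclusion hVS)) := by
            refine (injective_iff_map_eq_one _).mpr fun w hw => Subtype.ext ?_
            have hm : (w : Ω) ∈ M₀.map S.subtype ⊓ V := ⟨⟨_, (QuotientGroup.eq_one_iff _).mp hw, rfl⟩, w.2⟩
            rwa [hMV, Subgroup.mem_bot] at hm
          rw [← hi, Subgroup.index_eq_card]
          exact Subgroup.card_dvd_of_injective _ hinj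
        have heq : Subgroup.zpowers (x : Ω) = V := by
          refine Subgroup.eq_of_le_of_card_ge (Subgroup.zpowers_le.mpr hx) ?_
          rw [Nat.card_zpowers, orderOf_eq_prime (hVcard x hx) hx1]
          exact Nat.le_of_dvd hpp.pos hcard
        exact (Subgroup.zpowers_le.mpr x.2 : Subgroup.zpowers (x : Ω) ≤ R) (heq.ge hw)
      rw [show x = 1 from Subtype.ext hbot, map_one, Subgroup.coe_one]
  haveI : Finite P := finite_of_le hP
  intro α
  obtain ⟨φ, hφ, -, he⟩ := F.exists_map_of_mem_autGroup hP α.2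
  obtain ⟨g, hg, hge⟩ := hmod P φ hφ
  have hstep : ∀ (j : ℕ) (x : P), (g ^ j * (x : Ω) * (g ^ j)⁻¹)⁻¹ * ((((α : MulAut P) ^ j) x : P) : Ω) ∈ V := by
    intro j
    induction j with
    | zero => intro x; simp
    | succ j ih =>
      intro x
      have h1 := hge (((α : MulAut P) ^ j) x)
      rw [he] at h1
      have h2 := (Subgroup.mem_normalizer_iff.mp (hVn hg) _).mp (ih x)
      have h4 : ((α : MulAut P) ^ (j + 1)) x = (α : MulAut P) (((α : MulAut P) ^ j) x) := by
        rw [pow_succ', MulAut.mul_apply]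
      have h3 := V.mul_mem h2 h1
      rw [h4]
      rw [pow_succ' g]
      simpa [mul_assoc] using h3
  obtain ⟨k, hk⟩ := hS ⟨g, hg⟩
  refine ⟨k + 1, Subtype.ext ?_⟩
  rw [SubgroupClass.coe_pow, Subgroup.coe_one, pow_succ, pow_mul]
  refine pow_eq_one_of_congr (W := V.subgroupOf P) (fun w hw => Subtype.ext ?_) (fun x => ?_)
    fun w hw => Subtype.ext (hVcard w hw)
  · obtain ⟨φ', hφ', -, he'⟩ := F.exists_map_of_mem_autGroup hP ((F.autGroup P).pow_mem α.2 (p ^ k))
    rw [← he']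
    exact hfixV hφ' w hw
  · show (x : Ω)⁻¹ * _ ∈ V
    have := hstep (p ^ k) x
    rwa [show g ^ p ^ k = 1 from congrArg Subtype.val hk, one_mul, inv_one, mul_one] at this

end Cfsg.WeaklyEmbedded
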